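import Groth.Agent.Lib.Helper5.Desc.Pull

/-!
# Descent of morphisms of descent data: the pull-back functor along a covering refinement is
fully faithful
-/

set_option autoImplicit false
set_option backward.isDefEq.respectTransparency false
set_option backward.isDefEq.respectTransparency.types false

universe w'' w' w u

open CategoryTheory CategoryTheory.Limits AlgebraicGeometry Opposite

namespace Groth.Agent.H5.Desc

open _root_.Desc

section glue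

/-- Gluing morphisms of schemes along a covering sieve of the fpqc topology. -/
lemma exists_glue {T W : Scheme.{u}} (R : Sieve T) (hR : R ∈ Scheme.fpqcTopology T)
    (m : ∀ ⦃T' : Scheme.{u}⦄ (t : T' ⟶ T), R t → (T' ⟶ W))
    (hm : ∀ ⦃T' T'' : Scheme.{u}⦄ (t : T' ⟶ T) (g : T'' ⟶ T') (ht : R t),
      m (g ≫ t) (R.downward_closed ht g) = g ≫ m t ht) :
    ∃ a : T ⟶ W, ∀ ⦃T' : Scheme.{u}⦄ (t : T' ⟶ T) (h : R t), t ≫ a = m t h := by
  have hsh : Presieve.IsSheafFor (yoneda.obj W) R.arrows :=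
    (GrothendieckTopology.Subcanonical.isSheaf_of_isRepresentable (J := Scheme.fpqcTopology)
      (yoneda.obj W)) R hR
  let x : Presieve.FamilyOfElements (yoneda.obj W) R.arrows := fun T' t ht => m t ht
  have hx : x.Compatible := by
    rw [Presieve.compatible_iff_sieveCompatible]
    intro T' T'' t g ht
    exact hm t g ht
  refine ⟨hsh.amalgamate x hx, fun T' t ht => ?_⟩
  exact hsh.valid_glue hx t ht

lemma hom_ext_of_cover {T W : Scheme.{u}} (R : Sieve T) (hR : R ∈ Scheme.fpqcTopology T)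
    (a b : T ⟶ W) (h : ∀ ⦃T' : Scheme.{u}⦄ (t : T' ⟶ T), R t → t ≫ a = t ≫ b) : a = b := by
  have hsh : Presieve.IsSheafFor (yoneda.obj W) R.arrows :=
    (GrothendieckTopology.Subcanonical.isSheaf_of_isRepresentable (J := Scheme.fpqcTopology)
      (yoneda.obj W)) R hR
  exact hsh.isSeparatedFor.ext (fun T' t ht => h t ht)

lemma lifts_ext_of_cover {Y : Scheme.{u}} {V : Over Y} {T : Scheme.{u}} {x : T ⟶ Y}
    (R : Sieve T) (hR : R ∈ Scheme.fpqcTopology T) (a b : Lifts V x)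
    (h : ∀ ⦃T' : Scheme.{u}⦄ (t : T' ⟶ T), R t → Lifts.res t a rfl = Lifts.res t b rfl) :
    a = b :=
  Subtype.ext (hom_ext_of_cover R hR _ _ (fun _ t ht => congrArg Subtype.val (h t ht)))

end glue

section ff

variable {S : Scheme.{u}} {ι : Type w} {X : ι → Scheme.{u}} {f : ∀ i, X i ⟶ S}
  {ι' : Type w'} {X' : ι' → Scheme.{u}} {f' : ∀ k, X' k ⟶ S}
  {α : ι' → ι} {p' : ∀ k, X' k ⟶ X (α k)} (w : ∀ k, p' k ≫ f (α k) = f' k ≫ 𝟙 S)

lemma push_res {D D' : SchDDFam f} (a : D ⟶ D') {T T' : Scheme.{u}} (g : T' ⟶ T) {i : ι}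
    (x : T ⟶ X i) (y : T' ⟶ X i) (hy : g ≫ x = y) (v : Lifts (D.obj i) x) :
    SchDDFam.Hom.push a (Lifts.res g v hy) = Lifts.res g (SchDDFam.Hom.push a v) hy :=
  Subtype.ext (by simp [SchDDFam.Hom.push])

variable {D D' : SchDDFam f} (β : (pullDDFam w).obj D ⟶ (pullDDFam w).obj D')

/-- The candidate value of the descended morphism, computed using an auxiliary point `y`. -/
noncomputable def M {T : Scheme.{u}} {j : ι} (x : T ⟶ X j) (v : Lifts (D.obj j) x) {k : ι'}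
    (y : T ⟶ X' k) (hc : x ≫ f j = (y ≫ p' k) ≫ f (α k)) : Lifts (D'.obj j) x :=
  D'.φ (y ≫ p' k) x hc.symm
    (plpe w D' y (SchDDFam.Hom.push β ((plpe w D y).symm (D.φ x (y ≫ p' k) hc v))))

include w in
lemma compat_aux {T : Scheme.{u}} {j : ι} (x : T ⟶ X j) {k₁ k₂ : ι'} (y₁ : T ⟶ X' k₁)
    (y₂ : T ⟶ X' k₂) (hc₁ : x ≫ f j = (y₁ ≫ p' k₁) ≫ f (α k₁))
    (hc₂ : x ≫ f j = (y₂ ≫ p' k₂) ≫ f (α k₂)) : y₁ ≫ f' k₁ = y₂ ≫ f' k₂ := by
  have h1 : (y₁ ≫ p' k₁) ≫ f (α k₁) = y₁ ≫ f' k₁ := by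
    rw [Category.assoc, w, Category.comp_id]
  have h2 : (y₂ ≫ p' k₂) ≫ f (α k₂) = y₂ ≫ f' k₂ := by
    rw [Category.assoc, w, Category.comp_id]
  rw [← h1, ← h2, ← hc₁, ← hc₂]

lemma M_indep {T : Scheme.{u}} {j : ι} (x : T ⟶ X j) (v : Lifts (D.obj j) x) {k₁ k₂ : ι'}
    (y₁ : T ⟶ X' k₁) (y₂ : T ⟶ X' k₂) (hc₁ : x ≫ f j = (y₁ ≫ p' k₁) ≫ f (α k₁))
    (hc₂ : x ≫ f j = (y₂ ≫ p' k₂) ≫ f (α k₂)) : M w β x v y₁ hc₁ = M w β x v y₂ hc₂ := by
  have hy := compat_aux w x y₁ y₂ hc₁ hc₂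
  have key := comm_push β y₁ y₂ hy ((plpe w D y₁).symm (D.φ x (y₁ ≫ p' k₁) hc₁ v))
  rw [pull_φ, pull_φ, Equiv.apply_symm_apply, D.φ_comp] at key
  unfold M
  rw [← key, Equiv.apply_symm_apply, D'.φ_comp]

lemma M_indep' {T : Scheme.{u}} {j : ι} (x₁ x₂ : T ⟶ X j) (hx : x₁ = x₂)
    (v₁ : Lifts (D.obj j) x₁) (v₂ : Lifts (D.obj j) x₂) (hv : v₁.1 = v₂.1) {k₁ k₂ : ι'}
    (y₁ : T ⟶ X' k₁) (y₂ : T ⟶ X' k₂) (hc₁ : x₁ ≫ f j = (y₁ ≫ p' k₁) ≫ f (α k₁))
    (hc₂ : x₂ ≫ f j = (y₂ ≫ p' k₂) ≫ f (α k₂)) :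
    (M w β x₁ v₁ y₁ hc₁).1 = (M w β x₂ v₂ y₂ hc₂).1 := by
  subst hx
  obtain rfl : v₁ = v₂ := Subtype.ext hv
  rw [M_indep]

lemma M_res {T T' : Scheme.{u}} (g : T' ⟶ T) {j : ι} (x : T ⟶ X j) (x' : T' ⟶ X j)
    (hx : g ≫ x = x') (v : Lifts (D.obj j) x) {k : ι'} (y : T ⟶ X' k) (y' : T' ⟶ X' k)
    (hy : g ≫ y = y') (hc : x ≫ f j = (y ≫ p' k) ≫ f (α k))
    (hc' : x' ≫ f j = (y' ≫ p' k) ≫ f (α k)) :
    M w β x' (Lifts.res g v hx) y' hc' = Lifts.res g (M w β x v y hc) hx := by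
  unfold M
  have hyp : g ≫ (y ≫ p' k) = y' ≫ p' k := by rw [← hy, Category.assoc]
  rw [φ_res D g x (y ≫ p' k) hc x' (y' ≫ p' k) hx hyp hc',
    plpe_symm_res w D g y y' hy, push_res, plpe_res w D' g y y' hy,
    φ_res D' g (y ≫ p' k) x hc.symm (y' ≫ p' k) x' hyp hx hc'.symm]

variable (hcov : ∀ j, Sieve.pullback (f j) (Sieve.ofArrows X' f') ∈ Scheme.fpqcTopology (X j))

/-- The covering sieve of `T` attached to a point `x : T ⟶ X j`. -/
def Rx (f : ∀ i, X i ⟶ S) (f' : ∀ k, X' k ⟶ S) {T : Scheme.{u}} {j : ι} (x : T ⟶ X j) :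
    Sieve T :=
  Sieve.pullback x (Sieve.pullback (f j) (Sieve.ofArrows X' f'))

include hcov in
lemma Rx_mem {T : Scheme.{u}} {j : ι} (x : T ⟶ X j) : Rx f f' x ∈ Scheme.fpqcTopology T :=
  (Scheme.fpqcTopology).pullback_stable x (hcov j)

include w in
lemma Rx_iff {T T' : Scheme.{u}} {j : ι} (x : T ⟶ X j) (t : T' ⟶ T) :
    Rx f f' x t ↔ ∃ (k : ι') (y : T' ⟶ X' k), (t ≫ x) ≫ f j = (y ≫ p' k) ≫ f (α k) := by
  change Sieve.ofArrows X' f' ((t ≫ x) ≫ f j) ↔ _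
  rw [Sieve.mem_ofArrows_iff]
  constructor
  · rintro ⟨k, y, h⟩
    exact ⟨k, y, by rw [h, Category.assoc, w, Category.comp_id]⟩
  · rintro ⟨k, y, h⟩
    exact ⟨k, y, by rw [h, Category.assoc, w, Category.comp_id]⟩

/-- chosen index for an arrow in the sieve -/
noncomputable def Rk {T T' : Scheme.{u}} {j : ι} (x : T ⟶ X j) (t : T' ⟶ T) (ht : Rx f f' x t) :
    ι' := ((Rx_iff w x t).1 ht).choose

/-- chosen auxiliary point for an arrow in the sieve -/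
noncomputable def Ry {T T' : Scheme.{u}} {j : ι} (x : T ⟶ X j) (t : T' ⟶ T) (ht : Rx f f' x t) :
    T' ⟶ X' (Rk w x t ht) := ((Rx_iff w x t).1 ht).choose_spec.choose

lemma Rc {T T' : Scheme.{u}} {j : ι} (x : T ⟶ X j) (t : T' ⟶ T) (ht : Rx f f' x t) :
    (t ≫ x) ≫ f j = (Ry w x t ht ≫ p' (Rk w x t ht)) ≫ f (α (Rk w x t ht)) :=
  ((Rx_iff w x t).1 ht).choose_spec.choose_spec

include hcov in
lemma exists_pre {T : Scheme.{u}} {j : ι} (x : T ⟶ X j) (v : Lifts (D.obj j) x) :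
    ∃ a : Lifts (D'.obj j) x, ∀ ⦃T' : Scheme.{u}⦄ (t : T' ⟶ T) {k : ι'} (y : T' ⟶ X' k)
      (hc : (t ≫ x) ≫ f j = (y ≫ p' k) ≫ f (α k)),
      Lifts.res t a rfl = M w β (t ≫ x) (Lifts.res t v rfl) y hc := by
  obtain ⟨a, ha⟩ := exists_glue (W := (D'.obj j).left) (Rx f f' x) (Rx_mem hcov x)
    (fun T' t ht => (M w β (t ≫ x) (Lifts.res t v rfl) (Ry w x t ht) (Rc w x t ht)).1)
    (fun T' T'' t g ht => by
      have := M_res w β g (t ≫ x) (g ≫ t ≫ x) rfl (Lifts.res t v rfl) (Ry w x t ht)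
        (g ≫ Ry w x t ht) rfl (Rc w x t ht)
        (by have := Rc w x t ht
            simp only [Category.assoc] at this ⊢
            rw [this])
      have h2 := congrArg Subtype.val this
      rw [Lifts.res_val] at h2
      rw [← h2]
      apply M_indep'
      · rw [Category.assoc]
      · simp)
  have hax : a ≫ (D'.obj j).hom = x := by
    apply hom_ext_of_cover (Rx f f' x) (Rx_mem hcov x)
    intro T' t ht
    rw [← Category.assoc, ha t ht]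
    exact (M w β (t ≫ x) (Lifts.res t v rfl) (Ry w x t ht) (Rc w x t ht)).2
  refine ⟨⟨a, hax⟩, fun T' t k y hc => ?_⟩
  have ht : Rx f f' x t := (Rx_iff w x t).2 ⟨k, y, hc⟩
  apply Subtype.ext
  rw [Lifts.res_val]
  change t ≫ a = _
  rw [ha t ht, M_indep]

/-- The descended map on lifts. -/
noncomputable def pre {T : Scheme.{u}} {j : ι} (x : T ⟶ X j) (v : Lifts (D.obj j) x) :
    Lifts (D'.obj j) x := (exists_pre w β hcov x v).choose

lemma pre_spec {T : Scheme.{u}} {j : ι} (x : T ⟶ X j) (v : Lifts (D.obj j) x)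
    ⦃T' : Scheme.{u}⦄ (t : T' ⟶ T) {k : ι'} (y : T' ⟶ X' k)
    (hc : (t ≫ x) ≫ f j = (y ≫ p' k) ≫ f (α k)) :
    Lifts.res t (pre w β hcov x v) rfl = M w β (t ≫ x) (Lifts.res t v rfl) y hc :=
  (exists_pre w β hcov x v).choose_spec t y hc

lemma pre_eq_M {T : Scheme.{u}} {j : ι} (x : T ⟶ X j) (v : Lifts (D.obj j) x) {k : ι'}
    (y : T ⟶ X' k) (hc : x ≫ f j = (y ≫ p' k) ≫ f (α k)) :
    pre w β hcov x v = M w β x v y hc := by
  have := pre_spec w β hcov x v (𝟙 T) y (by rw [Category.id_comp]; exact hc)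
  apply Subtype.ext
  have h2 := congrArg Subtype.val this
  rw [Lifts.res_val, Category.id_comp] at h2
  rw [h2]
  apply M_indep'
  · rw [Category.id_comp]
  · simp

lemma pre_res {T T' : Scheme.{u}} (g : T' ⟶ T) {j : ι} (x : T ⟶ X j) (y : T' ⟶ X j)
    (hy : g ≫ x = y) (v : Lifts (D.obj j) x) :
    pre w β hcov y (Lifts.res g v hy) = Lifts.res g (pre w β hcov x v) hy := by
  subst hy
  apply lifts_ext_of_cover (Rx f f' (g ≫ x)) (Rx_mem hcov _)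
  intro T'' t ht
  obtain ⟨k, y, hc⟩ := (Rx_iff w _ t).1 ht
  rw [pre_spec w β hcov (g ≫ x) (Lifts.res g v rfl) t y hc]
  have hc2 : ((t ≫ g) ≫ x) ≫ f j = (y ≫ p' k) ≫ f (α k) := by
    rw [← hc]; simp only [Category.assoc]
  have h3 := pre_spec w β hcov x v (t ≫ g) y hc2
  apply Subtype.ext
  have h4 := congrArg Subtype.val h3
  simp only [Lifts.res_val, Category.assoc] at h4 ⊢
  rw [h4]
  apply M_indep'
  · rw [Category.assoc]
  · simp

lemma pre_comm {T : Scheme.{u}} {i j : ι} (x₀ : T ⟶ X i) (x₁ : T ⟶ X j)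
    (h : x₀ ≫ f i = x₁ ≫ f j) (v : Lifts (D.obj i) x₀) :
    D'.φ x₀ x₁ h (pre w β hcov x₀ v) = pre w β hcov x₁ (D.φ x₀ x₁ h v) := by
  apply lifts_ext_of_cover (Rx f f' x₀) (Rx_mem hcov _)
  intro T' t ht
  obtain ⟨k, y, hc⟩ := (Rx_iff w _ t).1 ht
  have h' : (t ≫ x₀) ≫ f i = (t ≫ x₁) ≫ f j := by
    rw [Category.assoc, h, Category.assoc]
  have hc1 : (t ≫ x₁) ≫ f j = (y ≫ p' k) ≫ f (α k) := by rw [← h', hc]
  rw [← φ_res D' t x₀ x₁ h (t ≫ x₀) (t ≫ x₁) rfl rfl h', pre_spec w β hcov x₀ v t y hc,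
    ← pre_res w β hcov t x₁ (t ≫ x₁) rfl, ← φ_res D t x₀ x₁ h (t ≫ x₀) (t ≫ x₁) rfl rfl h',
    pre_eq_M w β hcov (t ≫ x₁) _ y hc1]
  unfold M
  rw [D'.φ_comp, D.φ_comp]

/-- The descended morphism of descent data. -/
noncomputable def preHom : D ⟶ D' :=
  homMk D D' (fun _ _ x v => pre w β hcov x v)
    (fun _ _ g _ x y hy v => by rw [pre_res w β hcov g x y hy v]; rfl)
    (fun _ _ _ x₀ x₁ h v => pre_comm w β hcov x₀ x₁ h v)

lemma push_preHom {T : Scheme.{u}} {j : ι} (x : T ⟶ X j) (v : Lifts (D.obj j) x) :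
    SchDDFam.Hom.push (preHom w β hcov) v = pre w β hcov x v :=
  Subtype.ext (by rw [push_val]; exact homMk_spec _ _ _ _ _ x v)

lemma map_preHom : (pullDDFam w).map (preHom w β hcov) = β := by
  apply hom_ext_lifts
  intro T k x z
  rw [← push_val, ← push_val]
  congr 1
  apply (plpe w D' x).injective
  rw [plpe_push, push_preHom, pre_eq_M w β hcov (x ≫ p' k) _ x rfl]
  unfold M
  have h1 : D.φ (x ≫ p' k) (x ≫ p' k) rfl (plpe w D x z) = plpe w D x z := D.φ_self _ _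
  rw [h1, Equiv.symm_apply_apply]
  exact D'.φ_self _ _

omit β in
include hcov in
theorem pullDDFam_full : (pullDDFam w).Full :=
  ⟨fun β => ⟨preHom w β hcov, map_preHom w β hcov⟩⟩

omit β in
/-- Faithfulness only needs that the sieves `Rx` are jointly epimorphic. -/
theorem pullDDFam_faithful_of_sep
    (hsep : ∀ ⦃j : ι⦄ ⦃T : Scheme.{u}⦄ (x : T ⟶ X j) ⦃W : Scheme.{u}⦄ (a b : T ⟶ W),
      (∀ ⦃T' : Scheme.{u}⦄ (t : T' ⟶ T), Rx f f' x t → t ≫ a = t ≫ b) → a = b) :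
    (pullDDFam w).Faithful := by
  refine ⟨fun {D D'} a b hab => ?_⟩
  apply hom_ext_lifts
  intro T j x v
  apply hsep x
  intro T' t ht
  obtain ⟨k, y, hc⟩ := (Rx_iff w _ t).1 ht
  have key : ∀ c : D ⟶ D', SchDDFam.Hom.push c (Lifts.res t v rfl) =
      D'.φ (y ≫ p' k) (t ≫ x) hc.symm (plpe w D' y (SchDDFam.Hom.push ((pullDDFam w).map c)
        ((plpe w D y).symm (D.φ (t ≫ x) (y ≫ p' k) hc (Lifts.res t v rfl))))) := by
    intro c
    rw [plpe_push, Equiv.apply_symm_apply, comm_push, D.φ_comp, D.φ_self]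
  have := congrArg Subtype.val ((key a).trans ((by rw [hab] : _ = _).trans (key b).symm))
  simpa [SchDDFam.Hom.push] using this

omit β in
include hcov in
theorem pullDDFam_faithful_of_cover : (pullDDFam w).Faithful :=
  pullDDFam_faithful_of_sep w (fun _ _ x _ a b h =>
    hom_ext_of_cover (Rx f f' x) (Rx_mem hcov x) a b h)

end ff

end Groth.Agent.H5.Desc
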