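import Groth.Prelude.Def_DescFam
import Mathlib

/-!
# Yoneda-style helpers for descent data for schemes (`Desc.SchDDFam`)
-/

set_option autoImplicit false
set_option backward.isDefEq.respectTransparency false
set_option backward.isDefEq.respectTransparency.types false

universe w'' w' w u

open CategoryTheory CategoryTheory.Limits AlgebraicGeometry

namespace Groth.Agent.H5.Desc

open _root_.Desc

section overSec

variable {Y : Scheme.{u}}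

/-- restriction of a lift along `g : T' ⟶ T`. -/
def Lifts.res {V : Over Y} {T T' : Scheme.{u}} (g : T' ⟶ T) {x : T ⟶ Y} (v : Lifts V x)
    {y : T' ⟶ Y} (hy : g ≫ x = y) : Lifts V y :=
  ⟨g ≫ v.1, by rw [Category.assoc, v.2, hy]⟩

@[simp] lemma Lifts.res_val {V : Over Y} {T T' : Scheme.{u}} (g : T' ⟶ T) {x : T ⟶ Y}
    (v : Lifts V x) {y : T' ⟶ Y} (hy : g ≫ x = y) : (Lifts.res g v hy).1 = g ≫ v.1 := rfl

/-- The universal lift. -/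
def Lifts.univ (V : Over Y) : Lifts V V.hom := ⟨𝟙 _, Category.id_comp _⟩

/-- A morphism in `Over Y` from a natural family of maps on lifts. -/
def homOfLifts {V W : Over Y} (e : ∀ ⦃T : Scheme.{u}⦄ (x : T ⟶ Y), Lifts V x → Lifts W x) :
    V ⟶ W :=
  Over.homMk (e V.hom (Lifts.univ V)).1 (e V.hom (Lifts.univ V)).2

lemma homOfLifts_spec {V W : Over Y}
    (e : ∀ ⦃T : Scheme.{u}⦄ (x : T ⟶ Y), Lifts V x → Lifts W x)
    (nat : ∀ ⦃T T' : Scheme.{u}⦄ (g : T' ⟶ T) (x : T ⟶ Y) (y : T' ⟶ Y) (hy : g ≫ x = y)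
      (v : Lifts V x), (e y (Lifts.res g v hy)).1 = g ≫ (e x v).1)
    {T : Scheme.{u}} (x : T ⟶ Y) (v : Lifts V x) :
    v.1 ≫ (homOfLifts e).left = (e x v).1 := by
  have := nat v.1 V.hom x v.2 (Lifts.univ V)
  change v.1 ≫ (e V.hom (Lifts.univ V)).1 = _
  rw [← this]
  congr 2


lemma over_hom_ext_lifts {V W : Over Y} (a b : V ⟶ W)
    (h : ∀ ⦃T : Scheme.{u}⦄ (x : T ⟶ Y) (v : Lifts V x), v.1 ≫ a.left = v.1 ≫ b.left) :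
    a = b := by
  apply Over.OverMorphism.ext
  simpa [Lifts.univ] using h V.hom (Lifts.univ V)

end overSec

section fam

variable {S : Scheme.{u}} {ι : Type w} {X : ι → Scheme.{u}} {f : ∀ i, X i ⟶ S}

lemma push_val {D D' : SchDDFam f} (a : D ⟶ D') {T : Scheme.{u}} {i : ι} {x : T ⟶ X i}
    (v : Lifts (D.obj i) x) : (SchDDFam.Hom.push a v).1 = v.1 ≫ (a.hom i).left := rfl

lemma comm_push {D D' : SchDDFam f} (a : D ⟶ D') {T : Scheme.{u}} {i j : ι} (x₀ : T ⟶ X i)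
    (x₁ : T ⟶ X j) (h : x₀ ≫ f i = x₁ ≫ f j) (v : Lifts (D.obj i) x₀) :
    D'.φ x₀ x₁ h (SchDDFam.Hom.push a v) = SchDDFam.Hom.push a (D.φ x₀ x₁ h v) :=
  Subtype.ext (a.comm x₀ x₁ h v _ rfl)

lemma φ_res (D : SchDDFam f) {T T' : Scheme.{u}} (g : T' ⟶ T) {i j : ι} (x₀ : T ⟶ X i)
    (x₁ : T ⟶ X j) (h : x₀ ≫ f i = x₁ ≫ f j) (y₀ : T' ⟶ X i) (y₁ : T' ⟶ X j)
    (hy₀ : g ≫ x₀ = y₀) (hy₁ : g ≫ x₁ = y₁) (h' : y₀ ≫ f i = y₁ ≫ f j)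
    (v : Lifts (D.obj i) x₀) :
    D.φ y₀ y₁ h' (Lifts.res g v hy₀) = Lifts.res g (D.φ x₀ x₁ h v) hy₁ :=
  Subtype.ext (D.φ_natural g x₀ x₁ h y₀ y₁ hy₀ hy₁ h' v _ rfl)

/-- `φ` between propositionally equal points is the identity on underlying morphisms. -/
lemma φ_eq_val (D : SchDDFam f) {T : Scheme.{u}} {i : ι} (x₀ x₁ : T ⟶ X i) (hx : x₀ = x₁)
    (h : x₀ ≫ f i = x₁ ≫ f i) (v : Lifts (D.obj i) x₀) : (D.φ x₀ x₁ h v).1 = v.1 := by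
  subst hx
  rw [D.φ_self]

lemma φ_symm_apply (D : SchDDFam f) {T : Scheme.{u}} {i j : ι} (x₀ : T ⟶ X i)
    (x₁ : T ⟶ X j) (h : x₀ ≫ f i = x₁ ≫ f j) (v : Lifts (D.obj j) x₁) :
    (D.φ x₀ x₁ h).symm v = D.φ x₁ x₀ h.symm v := by
  rw [Equiv.symm_apply_eq, D.φ_comp, D.φ_self]

lemma hom_ext_lifts {D D' : SchDDFam f} (a b : D ⟶ D')
    (h : ∀ ⦃T : Scheme.{u}⦄ ⦃i : ι⦄ (x : T ⟶ X i) (v : Lifts (D.obj i) x),
      v.1 ≫ (a.hom i).left = v.1 ≫ (b.hom i).left) : a = b := by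
  apply SchDDFam.hom_ext
  funext i
  exact over_hom_ext_lifts _ _ (fun T x v => h x v)

/-- Build a morphism of descent data from a natural family of maps on lifts commuting with `φ`. -/
def homMk (D D' : SchDDFam f)
    (e : ∀ ⦃T : Scheme.{u}⦄ ⦃i : ι⦄ (x : T ⟶ X i), Lifts (D.obj i) x → Lifts (D'.obj i) x)
    (nat : ∀ ⦃T T' : Scheme.{u}⦄ (g : T' ⟶ T) ⦃i : ι⦄ (x : T ⟶ X i) (y : T' ⟶ X i)
      (hy : g ≫ x = y) (v : Lifts (D.obj i) x), (e y (Lifts.res g v hy)).1 = g ≫ (e x v).1)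
    (comm : ∀ ⦃T : Scheme.{u}⦄ ⦃i j : ι⦄ (x₀ : T ⟶ X i) (x₁ : T ⟶ X j)
      (h : x₀ ≫ f i = x₁ ≫ f j) (v : Lifts (D.obj i) x₀),
      D'.φ x₀ x₁ h (e x₀ v) = e x₁ (D.φ x₀ x₁ h v)) : D ⟶ D' where
  hom i := homOfLifts (fun _ x => e x)
  comm T i j x₀ x₁ h v w hw := by
    have h1 := homOfLifts_spec (fun _ x => e (i := i) x) (fun _ _ g x y hy v => nat g x y hy v)
      x₀ v
    have h2 := homOfLifts_spec (fun _ x => e (i := j) x) (fun _ _ g x y hy v => nat g x y hy v)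
      x₁ (D.φ x₀ x₁ h v)
    have hw' : w = e x₀ v := Subtype.ext (by rw [hw, h1])
    rw [h2, hw', comm]

lemma homMk_spec (D D' : SchDDFam f)
    (e : ∀ ⦃T : Scheme.{u}⦄ ⦃i : ι⦄ (x : T ⟶ X i), Lifts (D.obj i) x → Lifts (D'.obj i) x)
    (nat : ∀ ⦃T T' : Scheme.{u}⦄ (g : T' ⟶ T) ⦃i : ι⦄ (x : T ⟶ X i) (y : T' ⟶ X i)
      (hy : g ≫ x = y) (v : Lifts (D.obj i) x), (e y (Lifts.res g v hy)).1 = g ≫ (e x v).1)
    (comm : ∀ ⦃T : Scheme.{u}⦄ ⦃i j : ι⦄ (x₀ : T ⟶ X i) (x₁ : T ⟶ X j)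
      (h : x₀ ≫ f i = x₁ ≫ f j) (v : Lifts (D.obj i) x₀),
      D'.φ x₀ x₁ h (e x₀ v) = e x₁ (D.φ x₀ x₁ h v))
    {T : Scheme.{u}} {i : ι} (x : T ⟶ X i) (v : Lifts (D.obj i) x) :
    v.1 ≫ ((homMk D D' e nat comm).hom i).left = (e x v).1 :=
  homOfLifts_spec (fun _ x => e (i := i) x) (fun _ _ g x y hy v => nat g x y hy v) x v

lemma nat_symm (D D' : SchDDFam f)
    (e : ∀ ⦃T : Scheme.{u}⦄ ⦃i : ι⦄ (x : T ⟶ X i), Lifts (D.obj i) x ≃ Lifts (D'.obj i) x)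
    (nat : ∀ ⦃T T' : Scheme.{u}⦄ (g : T' ⟶ T) ⦃i : ι⦄ (x : T ⟶ X i) (y : T' ⟶ X i)
      (hy : g ≫ x = y) (v : Lifts (D.obj i) x), (e y (Lifts.res g v hy)).1 = g ≫ (e x v).1) :
    ∀ ⦃T T' : Scheme.{u}⦄ (g : T' ⟶ T) ⦃i : ι⦄ (x : T ⟶ X i) (y : T' ⟶ X i)
      (hy : g ≫ x = y) (v : Lifts (D'.obj i) x),
      ((e y).symm (Lifts.res g v hy)).1 = g ≫ ((e x).symm v).1 := by
  intro T T' g i x y hy v
  have := nat g x y hy ((e x).symm v)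
  rw [Equiv.apply_symm_apply] at this
  have h2 : Lifts.res g v hy = e y (Lifts.res g ((e x).symm v) hy) := Subtype.ext this.symm
  rw [h2, Equiv.symm_apply_apply]; rfl

lemma comm_symm (D D' : SchDDFam f)
    (e : ∀ ⦃T : Scheme.{u}⦄ ⦃i : ι⦄ (x : T ⟶ X i), Lifts (D.obj i) x ≃ Lifts (D'.obj i) x)
    (comm : ∀ ⦃T : Scheme.{u}⦄ ⦃i j : ι⦄ (x₀ : T ⟶ X i) (x₁ : T ⟶ X j)
      (h : x₀ ≫ f i = x₁ ≫ f j) (v : Lifts (D.obj i) x₀),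
      D'.φ x₀ x₁ h (e x₀ v) = e x₁ (D.φ x₀ x₁ h v)) :
    ∀ ⦃T : Scheme.{u}⦄ ⦃i j : ι⦄ (x₀ : T ⟶ X i) (x₁ : T ⟶ X j)
      (h : x₀ ≫ f i = x₁ ≫ f j) (v : Lifts (D'.obj i) x₀),
      D.φ x₀ x₁ h ((e x₀).symm v) = (e x₁).symm (D'.φ x₀ x₁ h v) := by
  intro T i j x₀ x₁ h v
  rw [Equiv.eq_symm_apply, ← comm, Equiv.apply_symm_apply]

/-- Build an isomorphism of descent data from a natural family of bijections on lifts commuting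
with `φ`. -/
def isoMk (D D' : SchDDFam f)
    (e : ∀ ⦃T : Scheme.{u}⦄ ⦃i : ι⦄ (x : T ⟶ X i), Lifts (D.obj i) x ≃ Lifts (D'.obj i) x)
    (nat : ∀ ⦃T T' : Scheme.{u}⦄ (g : T' ⟶ T) ⦃i : ι⦄ (x : T ⟶ X i) (y : T' ⟶ X i)
      (hy : g ≫ x = y) (v : Lifts (D.obj i) x), (e y (Lifts.res g v hy)).1 = g ≫ (e x v).1)
    (comm : ∀ ⦃T : Scheme.{u}⦄ ⦃i j : ι⦄ (x₀ : T ⟶ X i) (x₁ : T ⟶ X j)
      (h : x₀ ≫ f i = x₁ ≫ f j) (v : Lifts (D.obj i) x₀),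
      D'.φ x₀ x₁ h (e x₀ v) = e x₁ (D.φ x₀ x₁ h v)) : D ≅ D' where
  hom := homMk D D' (fun _ _ x => e x) nat comm
  inv := homMk D' D (fun _ _ x => (e x).symm) (nat_symm D D' e nat) (comm_symm D D' e comm)
  hom_inv_id := by
    apply hom_ext_lifts
    intro T i x v
    rw [SchDDFam.comp_hom, Over.comp_left, ← Category.assoc, homMk_spec]
    have := homMk_spec D' D (fun _ _ x => (e x).symm) (nat_symm D D' e nat)
      (comm_symm D D' e comm) x (e x v)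
    rw [this]; simp
  inv_hom_id := by
    apply hom_ext_lifts
    intro T i x v
    rw [SchDDFam.comp_hom, Over.comp_left, ← Category.assoc, homMk_spec]
    have := homMk_spec D D' (fun _ _ x => e x) nat comm x ((e x).symm v)
    rw [this]; simp

lemma isoMk_hom_spec (D D' : SchDDFam f)
    (e : ∀ ⦃T : Scheme.{u}⦄ ⦃i : ι⦄ (x : T ⟶ X i), Lifts (D.obj i) x ≃ Lifts (D'.obj i) x)
    (nat : ∀ ⦃T T' : Scheme.{u}⦄ (g : T' ⟶ T) ⦃i : ι⦄ (x : T ⟶ X i) (y : T' ⟶ X i)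
      (hy : g ≫ x = y) (v : Lifts (D.obj i) x), (e y (Lifts.res g v hy)).1 = g ≫ (e x v).1)
    (comm : ∀ ⦃T : Scheme.{u}⦄ ⦃i j : ι⦄ (x₀ : T ⟶ X i) (x₁ : T ⟶ X j)
      (h : x₀ ≫ f i = x₁ ≫ f j) (v : Lifts (D.obj i) x₀),
      D'.φ x₀ x₁ h (e x₀ v) = e x₁ (D.φ x₀ x₁ h v))
    {T : Scheme.{u}} {i : ι} (x : T ⟶ X i) (v : Lifts (D.obj i) x) :
    v.1 ≫ (((isoMk D D' e nat comm).hom).hom i).left = (e x v).1 :=
  homMk_spec D D' (fun _ _ x => e x) nat comm x v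

end fam

end Groth.Agent.H5.Desc
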