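import Groth.Agent.Lib.Helper5.Desc.Basic

/-!
# Isomorphisms between pull-back functors of descent data
-/

set_option autoImplicit false
set_option backward.isDefEq.respectTransparency false
set_option backward.isDefEq.respectTransparency.types false

universe w'' w' w u

open CategoryTheory CategoryTheory.Limits AlgebraicGeometry

namespace Groth.Agent.H5.Desc

open _root_.Desc

section pull

variable {S : Scheme.{u}} {ι : Type w} {X : ι → Scheme.{u}} {f : ∀ i, X i ⟶ S}
  {S' : Scheme.{u}} {ι' : Type w'} {X' : ι' → Scheme.{u}} {f' : ∀ j, X' j ⟶ S'}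
  {α : ι' → ι} {p : S' ⟶ S} {p' : ∀ j, X' j ⟶ X (α j)} (w : ∀ j, p' j ≫ f (α j) = f' j ≫ p)

/-- `liftsPullbackEquiv` typed for the objects of `pullDDFam`. -/
noncomputable def plpe (D : SchDDFam f) {T : Scheme.{u}} {j : ι'} (x : T ⟶ X' j) :
    Lifts (((pullDDFam w).obj D).obj j) x ≃ Lifts (D.obj (α j)) (x ≫ p' j) :=
  liftsPullbackEquiv (D.obj (α j)) (p' j) x

lemma plpe_val (D : SchDDFam f) {T : Scheme.{u}} {j : ι'} (x : T ⟶ X' j)
    (v : Lifts (((pullDDFam w).obj D).obj j) x) :
    (plpe w D x v).1 = v.1 ≫ pullback.fst (D.obj (α j)).hom (p' j) := rfl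

lemma plpe_res (D : SchDDFam f) {T T' : Scheme.{u}} (g : T' ⟶ T) {j : ι'} (x : T ⟶ X' j)
    (y : T' ⟶ X' j) (hy : g ≫ x = y) (v : Lifts (((pullDDFam w).obj D).obj j) x) :
    plpe w D y (Lifts.res g v hy) =
      Lifts.res g (plpe w D x v) (by rw [← hy, Category.assoc]) :=
  Subtype.ext (by simp [plpe, liftsPullbackEquiv])

lemma plpe_symm_res (D : SchDDFam f) {T T' : Scheme.{u}} (g : T' ⟶ T) {j : ι'} (x : T ⟶ X' j)
    (y : T' ⟶ X' j) (hy : g ≫ x = y) (u : Lifts (D.obj (α j)) (x ≫ p' j)) :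
    (plpe w D y).symm (Lifts.res g u (by rw [← hy, Category.assoc])) =
      Lifts.res g ((plpe w D x).symm u) hy := by
  rw [Equiv.symm_apply_eq, plpe_res, Equiv.apply_symm_apply]

lemma pull_φ (D : SchDDFam f) {T : Scheme.{u}} {j₀ j₁ : ι'} (x₀ : T ⟶ X' j₀) (x₁ : T ⟶ X' j₁)
    (h : x₀ ≫ f' j₀ = x₁ ≫ f' j₁) (v : Lifts (((pullDDFam w).obj D).obj j₀) x₀) :
    ((pullDDFam w).obj D).φ x₀ x₁ h v =
      (plpe w D x₁).symm
        (D.φ (x₀ ≫ p' j₀) (x₁ ≫ p' j₁) (pull_compat w x₀ x₁ h) (plpe w D x₀ v)) := rfl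

lemma plpe_push {D D' : SchDDFam f} (a : D ⟶ D') {T : Scheme.{u}} {j : ι'} (x : T ⟶ X' j)
    (v : Lifts (((pullDDFam w).obj D).obj j) x) :
    plpe w D' x (SchDDFam.Hom.push ((pullDDFam w).map a) v) =
      SchDDFam.Hom.push a (plpe w D x v) :=
  Subtype.ext (by simp [plpe, liftsPullbackEquiv, SchDDFam.Hom.push, pullDDFam])

end pull

section endo

variable {S : Scheme.{u}} {ι : Type w} {X : ι → Scheme.{u}} {f : ∀ i, X i ⟶ S}
  {α : ι → ι} {p : S ⟶ S} {p' : ∀ j, X j ⟶ X (α j)} (w : ∀ j, p' j ≫ f (α j) = f j ≫ p)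
  (h : ∀ j, p' j ≫ f (α j) = f j)

include h in
lemma endo_compat {T : Scheme.{u}} {j : ι} (x : T ⟶ X j) :
    (x ≫ p' j) ≫ f (α j) = x ≫ f j := by rw [Category.assoc, h]

/-- The comparison bijection for an endomorphism of a family. -/
noncomputable def endoEquiv (D : SchDDFam f) {T : Scheme.{u}} {j : ι} (x : T ⟶ X j) :
    Lifts (((pullDDFam w).obj D).obj j) x ≃ Lifts (D.obj j) x :=
  (plpe w D x).trans (D.φ (x ≫ p' j) x (endo_compat h x))

/-- The pull-back functor along an endomorphism of a family over `S` is isomorphic to the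
identity. -/
noncomputable def pullEndoIso : pullDDFam w ≅ 𝟭 (SchDDFam f) :=
  NatIso.ofComponents
    (fun D => isoMk ((pullDDFam w).obj D) D (fun _ _ x => endoEquiv w h D x)
      (fun T T' g j x y hy v => by
        simp only [endoEquiv, Equiv.trans_apply]
        rw [plpe_res, φ_res D g (x ≫ p' j) x (endo_compat h x) (y ≫ p' j) y
          (by rw [← hy, Category.assoc]) hy (endo_compat h y)]
        rfl)
      (fun T i j x₀ x₁ hx v => by
        simp only [endoEquiv, Equiv.trans_apply, pull_φ, Equiv.apply_symm_apply, D.φ_comp]))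
    (fun {D D'} a => by
      apply hom_ext_lifts
      intro T j x v
      rw [SchDDFam.comp_hom, Over.comp_left, ← Category.assoc, ← push_val, isoMk_hom_spec,
        SchDDFam.comp_hom, Over.comp_left, ← Category.assoc, isoMk_hom_spec]
      simp only [endoEquiv, Equiv.trans_apply, Functor.id_map, Functor.id_obj]
      rw [plpe_push, comm_push, push_val])

end endo

section parallel

variable {S : Scheme.{u}} {ι : Type w} {X : ι → Scheme.{u}} {f : ∀ i, X i ⟶ S}
  {S' : Scheme.{u}} {ι' : Type w'} {X' : ι' → Scheme.{u}} {f' : ∀ j, X' j ⟶ S'}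
  {p : S' ⟶ S}
  {α : ι' → ι} {p' : ∀ j, X' j ⟶ X (α j)} (w : ∀ j, p' j ≫ f (α j) = f' j ≫ p)
  {β : ι' → ι} {q' : ∀ j, X' j ⟶ X (β j)} (w₂ : ∀ j, q' j ≫ f (β j) = f' j ≫ p)

include w w₂ in
lemma parallel_compat {T : Scheme.{u}} {j : ι'} (x : T ⟶ X' j) :
    (x ≫ p' j) ≫ f (α j) = (x ≫ q' j) ≫ f (β j) := by
  rw [Category.assoc, Category.assoc, w, w₂]

/-- The comparison bijection for two parallel morphisms of families. -/
noncomputable def parallelEquiv (D : SchDDFam f) {T : Scheme.{u}} {j : ι'} (x : T ⟶ X' j) :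
    Lifts (((pullDDFam w).obj D).obj j) x ≃ Lifts (((pullDDFam w₂).obj D).obj j) x :=
  (plpe w D x).trans
    ((D.φ (x ≫ p' j) (x ≫ q' j) (parallel_compat w w₂ x)).trans (plpe w₂ D x).symm)

/-- Two morphisms of families over the same base morphism induce isomorphic pull-back
functors. -/
noncomputable def pullParallelIso : pullDDFam w ≅ pullDDFam w₂ :=
  NatIso.ofComponents
    (fun D => isoMk ((pullDDFam w).obj D) ((pullDDFam w₂).obj D)
      (fun _ _ x => parallelEquiv w w₂ D x)
      (fun T T' g j x y hy v => by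
        simp only [parallelEquiv, Equiv.trans_apply]
        rw [plpe_res, φ_res D g (x ≫ p' j) (x ≫ q' j) (parallel_compat w w₂ x) (y ≫ p' j)
          (y ≫ q' j) (by rw [← hy, Category.assoc]) (by rw [← hy, Category.assoc])
          (parallel_compat w w₂ y), plpe_symm_res w₂ D g x y hy]
        rfl)
      (fun T i j x₀ x₁ hx v => by
        simp only [parallelEquiv, Equiv.trans_apply, pull_φ, Equiv.apply_symm_apply, D.φ_comp]))
    (fun {D D'} a => by
      apply hom_ext_lifts
      intro T j x v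
      rw [SchDDFam.comp_hom, Over.comp_left, ← Category.assoc, ← push_val, isoMk_hom_spec,
        SchDDFam.comp_hom, Over.comp_left, ← Category.assoc, isoMk_hom_spec, ← push_val]
      congr 1
      apply (plpe w₂ D' x).injective
      simp only [parallelEquiv, Equiv.trans_apply, Equiv.apply_symm_apply]
      rw [plpe_push, comm_push, plpe_push, Equiv.apply_symm_apply])

end parallel

end Groth.Agent.H5.Desc
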