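import Groth.Agent.Lib.Helper5.Desc.Pull

/-!
# Composition of pull-back functors of descent data
-/

set_option autoImplicit false
set_option backward.isDefEq.respectTransparency false
set_option backward.isDefEq.respectTransparency.types false

universe w'' w' w u

open CategoryTheory CategoryTheory.Limits AlgebraicGeometry

namespace Groth.Agent.H5.Desc

open _root_.Desc

section comp

variable {S : Scheme.{u}} {ι : Type w} {X : ι → Scheme.{u}} {f : ∀ i, X i ⟶ S}
  {S' : Scheme.{u}} {ι' : Type w'} {X' : ι' → Scheme.{u}} {f' : ∀ j, X' j ⟶ S'}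
  {α : ι' → ι} {p : S' ⟶ S} {p' : ∀ j, X' j ⟶ X (α j)} (w : ∀ j, p' j ≫ f (α j) = f' j ≫ p)
  {S'' : Scheme.{u}} {ι'' : Type w''} {X'' : ι'' → Scheme.{u}} {f'' : ∀ k, X'' k ⟶ S''}
  {α' : ι'' → ι'} {pp : S'' ⟶ S'} {p'' : ∀ k, X'' k ⟶ X' (α' k)}
  (w' : ∀ k, p'' k ≫ f' (α' k) = f'' k ≫ pp)
  {pc : S'' ⟶ S}
  (wc : ∀ k, (p'' k ≫ p' (α' k)) ≫ f (α (α' k)) = f'' k ≫ pc)

lemma comp_compat {T : Scheme.{u}} {k : ι''} (x : T ⟶ X'' k) :
    ((x ≫ p'' k) ≫ p' (α' k)) ≫ f (α (α' k)) = (x ≫ (p'' k ≫ p' (α' k))) ≫ f (α (α' k)) := by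
  simp only [Category.assoc]

/-- The comparison bijection for a composite of morphisms of families. -/
noncomputable def compEquiv (D : SchDDFam f) {T : Scheme.{u}} {k : ι''} (x : T ⟶ X'' k) :
    Lifts (((pullDDFam w').obj ((pullDDFam w).obj D)).obj k) x ≃
      Lifts (((pullDDFam wc).obj D).obj k) x :=
  (plpe w' ((pullDDFam w).obj D) x).trans
    ((plpe w D (x ≫ p'' k)).trans
      ((D.φ ((x ≫ p'' k) ≫ p' (α' k)) (x ≫ (p'' k ≫ p' (α' k))) (comp_compat x)).trans
        (plpe wc D x).symm))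

/-- Pulling back twice is pulling back along the composite. -/
noncomputable def pullCompIso : pullDDFam w ⋙ pullDDFam w' ≅ pullDDFam wc :=
  NatIso.ofComponents
    (fun D => isoMk ((pullDDFam w').obj ((pullDDFam w).obj D)) ((pullDDFam wc).obj D)
      (fun _ _ x => compEquiv w w' wc D x)
      (fun T T' g k x y hy v => by
        simp only [compEquiv, Equiv.trans_apply]
        rw [plpe_res w' _ g x y hy, plpe_res w D g (x ≫ p'' k) (y ≫ p'' k)
            (by rw [← hy, Category.assoc]),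
          φ_res D g ((x ≫ p'' k) ≫ p' (α' k)) (x ≫ (p'' k ≫ p' (α' k))) (comp_compat x)
            ((y ≫ p'' k) ≫ p' (α' k)) (y ≫ (p'' k ≫ p' (α' k)))
            (by rw [← hy]; simp only [Category.assoc]) (by rw [← hy, Category.assoc])
            (comp_compat y),
          plpe_symm_res wc D g x y hy]
        rfl)
      (fun T i j x₀ x₁ hx v => by
        simp only [compEquiv, Equiv.trans_apply, pull_φ, Equiv.apply_symm_apply, D.φ_comp]))
    (fun {D D'} a => by
      dsimp only [Functor.comp_obj, Functor.comp_map]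
      apply hom_ext_lifts
      intro T k x v
      rw [SchDDFam.comp_hom, Over.comp_left, ← Category.assoc, ← push_val, isoMk_hom_spec,
        SchDDFam.comp_hom, Over.comp_left, ← Category.assoc, isoMk_hom_spec, ← push_val]
      congr 1
      apply (plpe wc D' x).injective
      simp only [compEquiv, Equiv.trans_apply, Equiv.apply_symm_apply]
      rw [plpe_push, plpe_push, comm_push, plpe_push, Equiv.apply_symm_apply])

end comp

section equivalence

variable {S : Scheme.{u}} {ι : Type w} {X : ι → Scheme.{u}} {f : ∀ i, X i ⟶ S}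
  {ι' : Type w'} {X' : ι' → Scheme.{u}} {f' : ∀ j, X' j ⟶ S}
  {α : ι' → ι} {p : S ⟶ S} {p' : ∀ j, X' j ⟶ X (α j)} (w : ∀ j, p' j ≫ f (α j) = f' j ≫ p)
  (hp : p = 𝟙 S)
  {β : ι → ι'} (q' : ∀ i, X i ⟶ X' (β i)) (wq : ∀ i, q' i ≫ f' (β i) = f i)

include hp wq in
/-- If there are morphisms of families over `S` in both directions, the pull-back functor is an
equivalence. -/
lemma pullDDFam_isEquivalence_of_back : (pullDDFam w).IsEquivalence := by
  subst hp
  have wq' : ∀ i, q' i ≫ f' (β i) = f i ≫ 𝟙 S := fun i => by rw [wq, Category.comp_id]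
  have w0 : ∀ j, p' j ≫ f (α j) = f' j := fun j => by rw [w, Category.comp_id]
  -- F ⋙ G ≅ 𝟭
  have wc1 : ∀ i, (q' i ≫ p' (β i)) ≫ f (α (β i)) = f i ≫ 𝟙 S := fun i => by
    rw [Category.assoc, w0, wq, Category.comp_id]
  have wc2 : ∀ j, (p' j ≫ q' (α j)) ≫ f' (β (α j)) = f' j ≫ 𝟙 S := fun j => by
    rw [Category.assoc, wq, w0, Category.comp_id]
  let η : pullDDFam w ⋙ pullDDFam wq' ≅ 𝟭 _ :=
    pullCompIso w wq' wc1 ≪≫ pullEndoIso wc1 (fun i => by rw [wc1, Category.comp_id])
  let ε : pullDDFam wq' ⋙ pullDDFam w ≅ 𝟭 _ :=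
    pullCompIso wq' w wc2 ≪≫ pullEndoIso wc2 (fun j => by rw [wc2, Category.comp_id])
  exact (CategoryTheory.Equivalence.mk (pullDDFam w) (pullDDFam wq') η.symm ε).isEquivalence_functor

end equivalence

end Groth.Agent.H5.Desc
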